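import Groth.Agent.Lib.ModelDom32.Basic

/-!
# The closed fibre of a model of a curve
-/

set_option autoImplicit false
set_option linter.style.haveILetI false
set_option linter.unusedSectionVars false
set_option backward.isDefEq.respectTransparency false
set_option maxHeartbeats 1000000

universe u

open CategoryTheory CategoryTheory.Limits AlgebraicGeometry TopologicalSpace Opposite

noncomputable section

namespace Groth.Agent.ModelDom

variable {R : Type u} [CommRing R] [IsDomain R] [IsDiscreteValuationRing R]
  {C : Scheme.{u}} [IsIntegral C] {fC : C ⟶ Spec (CommRingCat.of (FractionRing R))}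
  {X : Over (Spec (CommRingCat.of R))} [IsIntegral X.left] [IsProper X.hom] [Flat X.hom]

theorem isPre : ArInter.IsPre X :=
  ⟨inferInstance, inferInstance, inferInstance, inferInstance⟩

/-- A maximal point of the closed fibre. -/
def IsMaxPt (x : X.left) : Prop :=
  x ∈ Models.specialFibreSet R X ∧ ∀ w ∈ Models.specialFibreSet R X, w ⤳ x → w = x

omit [IsIntegral X.left] [IsProper X.hom] [Flat X.hom] in
theorem isMaxPt_iff_component (x : X.left) :
    IsMaxPt x ↔ closure ({x} : Set X.left) ∈ Models.fibreComponents R X := by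
  have hcl := Models.isClosed_specialFibreSet R X
  constructor
  · rintro ⟨hx, hmax⟩
    refine ⟨⟨isIrreducible_singleton.closure, hcl.closure_subset_iff.2 (Set.singleton_subset_iff.2 hx)⟩,
      fun S ⟨hS, hSs⟩ hle => ?_⟩
    obtain ⟨g, hg⟩ := QuasiSober.sober hS.closure isClosed_closure
    have hgs : g ∈ Models.specialFibreSet R X := hcl.closure_subset_iff.2 hSs hg.mem
    have hgx : g = x := hmax g hgs (hg.specializes (subset_closure (hle (subset_closure rfl))))
    rw [← hgx, hg.def]
    exact subset_closure
  · rintro ⟨⟨-, hsub⟩, hmax⟩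
    refine ⟨hsub (subset_closure rfl), fun w hw hwx => (hwx.antisymm ?_).eq⟩
    refine specializes_iff_mem_closure.2 (hmax ⟨isIrreducible_singleton.closure,
      hcl.closure_subset_iff.2 (Set.singleton_subset_iff.2 hw)⟩ (specializes_iff_closure_subset.1 hwx) ?_)
    exact subset_closure rfl

theorem valuationRing (hn : Pi1.IsNormalScheme X.left) {x : X.left} (hx : IsMaxPt x) :
    ∃ _ : IsDomain (X.left.presheaf.stalk x), ValuationRing (X.left.presheaf.stalk x) := by
  obtain ⟨π, hπ⟩ := IsDiscreteValuationRing.exists_irreducible R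
  haveI := ArInter.isNoetherian_left (isPre (X := X))
  have hs := fun w => ArInter.mem_support_fibreIdeal (X := X) hπ w
  have h1 := SecDiv.ringKrullDim_generic
    (ArInter.isEffCartierIdeal_fibreIdeal (isPre (X := X)) hπ.ne_zero) ((hs x).2 hx.1)
    fun y hy hyx => hx.2 y ((hs y).1 hy) hyx
  haveI := (hn x).1
  haveI := (hn x).2
  haveI : Ring.KrullDimLE 1 (X.left.presheaf.stalk x) := (Ring.krullDimLE_iff).2 (by rw [h1]; rfl)
  haveI : Ring.DimensionLEOne (X.left.presheaf.stalk x) :=
    Ring.DimensionLEOne.mk fun {p} hp hpp => (Ring.krullDimLE_one_iff_of_noZeroDivisors).1 inferInstance p hp hpp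
  haveI : IsDedekindDomain (X.left.presheaf.stalk x) := {}
  have hnf : ¬ IsField (X.left.presheaf.stalk x) := fun hf => by
    rw [ringKrullDim_eq_zero_of_isField hf] at h1
    exact absurd h1 (by norm_num)
  haveI : IsDiscreteValuationRing (X.left.presheaf.stalk x) :=
    ((IsDiscreteValuationRing.TFAE _ hnf).out 0 2 :
      IsDiscreteValuationRing (X.left.presheaf.stalk x) ↔ IsDedekindDomain (X.left.presheaf.stalk x)).2
      inferInstance
  exact ⟨inferInstance, inferInstance⟩

/-- The closed fibre of a model of a curve has dimension one. -/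
theorem eq_or_eq_of_chain (hC : Curve.IsSmoothProperCurve (FractionRing R) C fC) (i : C ⟶ X.left)
    (hi : IsPullback i fC X.hom (Spec.map (CommRingCat.ofHom (algebraMap R (FractionRing R)))))
    {a b c : X.left} (hab : a ⤳ b) (hbc : b ⤳ c) (ha : a ∈ Models.specialFibreSet R X) (nab : a ≠ b)
    (nbc : b ≠ c) : False := by
  haveI : IsOpenImmersion i := ArInter.isOpenImmersion_generic (p := X.hom) hi
  obtain ⟨π, hπ⟩ := IsDiscreteValuationRing.exists_irreducible R
  have hrange := ArInter.range_generic (p := X.hom) hi hπ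
  let η : Spec (CommRingCat.of R) := (⟨⊥, Ideal.isPrime_bot⟩ : PrimeSpectrum R)
  have hη : Set.range i = X.hom ⁻¹' {η} := by
    ext x
    constructor
    · rintro ⟨z, rfl⟩
      show X.hom (i z) = η
      rw [← Scheme.Hom.comp_apply, hi.w, Scheme.Hom.comp_apply]
      apply PrimeSpectrum.ext
      haveI := (fC z : PrimeSpectrum (FractionRing R)).isPrime
      show Ideal.comap (algebraMap R (FractionRing R)) (fC z : PrimeSpectrum (FractionRing R)).asIdeal = ⊥
      rw [(Ideal.eq_bot_or_top (fC z : PrimeSpectrum (FractionRing R)).asIdeal).resolve_right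
        (Ideal.IsPrime.ne_top inferInstance), ← RingHom.ker_eq_comap_bot,
        (RingHom.injective_iff_ker_eq_bot _).mp (IsFractionRing.injective R (FractionRing R))]
    · intro (hx : X.hom x = η)
      rw [hrange]
      have h1 : X.left.basicOpen (Coh.toGlobal X.hom π) = X.hom ⁻¹ᵁ (PrimeSpectrum.basicOpen π) := by
        rw [← basicOpen_eq_of_affine (R := CommRingCat.of R) π, Scheme.preimage_basicOpen]
        rfl
      rw [h1]
      show X.hom x ∈ PrimeSpectrum.basicOpen π
      rw [hx]
      exact fun h => hπ.ne_zero ((Submodule.mem_bot R).1 h)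
  haveI : Surjective X.hom := ⟨by
    rw [← Set.range_eq_univ]
    refine Set.eq_univ_of_forall fun s => ?_
    have hs : η ⤳ s := (PrimeSpectrum.le_iff_specializes η s).1 bot_le
    refine hs.mem_closed X.hom.isClosedMap.isClosed_range ?_
    exact ⟨i (genericPoint C), hη.le ⟨_, rfl⟩⟩⟩
  let ι := X.hom.fiberι (IsLocalRing.closedPoint R)
  have hmem : ∀ {w}, a ⤳ w → ∃ w', ι w' = w := fun {w} hw => by
    have : w ∈ Models.specialFibreSet R X := hw.mem_closed (Models.isClosed_specialFibreSet R X) ha
    exact (Scheme.Hom.range_fiberι X.hom (IsLocalRing.closedPoint R)).ge this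
  obtain ⟨a', rfl⟩ := hmem specializes_rfl
  obtain ⟨b', rfl⟩ := hmem hab
  obtain ⟨c', rfl⟩ := hmem (hab.trans hbc)
  rw [ι.isEmbedding.isInducing.specializes_iff] at hab hbc
  obtain ⟨Z, hZ, haZ⟩ := exists_mem_irreducibleComponents_subset_of_isIrreducible _
    (isIrreducible_singleton (x := a'))
  have hZc := isClosed_of_mem_irreducibleComponents Z hZ
  have hdim := Groth.Agent.S7624.result R X.left X.hom Z hZ
  have hgen : topologicalKrullDim ↥(X.hom.fiber η) = 1 := by
    have e1 := ((X.hom.fiberHomeo η).trans ((Homeomorph.setCongr hη.symm).trans i.isEmbedding.toHomeomorph.symm))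
    rw [e1.isHomeomorph.topologicalKrullDim_eq]
    exact hC.2.2.2
  rw [hgen] at hdim
  have haZ' : a' ∈ Z := haZ rfl
  let A : Z := ⟨a', haZ'⟩
  let B : Z := ⟨b', hab.mem_closed hZc haZ'⟩
  let D : Z := ⟨c', (hab.trans hbc).mem_closed hZc haZ'⟩
  let K : Z → IrreducibleCloseds Z := fun z => ⟨closure {z}, isIrreducible_singleton.closure, isClosed_closure⟩
  have hlt : ∀ {p q : Z}, (p : X.hom.fiber (IsLocalRing.closedPoint R)) ⤳ q → (p : X.hom.fiber (IsLocalRing.closedPoint R)) ≠ q →
      K q < K p := fun {p q} hpq hne => by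
    have hpq' : p ⤳ q := (subtype_specializes_iff _ _).2 hpq
    refine lt_of_le_of_ne (specializes_iff_closure_subset.mp hpq') fun he => hne ?_
    have he' : closure ({q} : Set Z) = closure {p} := congrArg (fun W : IrreducibleCloseds Z => (W : Set Z)) he
    exact (hpq.antisymm ((subtype_specializes_iff _ _).1 (specializes_iff_closure_subset.mpr he'.ge))).eq
  let s : LTSeries (IrreducibleCloseds Z) :=
    { length := 2
      toFun := ![K D, K B, K A]
      step := fun i => by
        fin_cases i
        · exact hlt hbc fun h => nbc (congrArg ι h)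
        · exact hlt hab fun h => nab (congrArg ι h) }
  have h2 : ((2 : ℕ) : WithBot ℕ∞) ≤ 1 := (Order.LTSeries.length_le_krullDim s).trans hdim.le
  exact absurd h2 (by decide)

theorem isMaxPt_or_isClosed (hC : Curve.IsSmoothProperCurve (FractionRing R) C fC) (i : C ⟶ X.left)
    (hi : IsPullback i fC X.hom (Spec.map (CommRingCat.ofHom (algebraMap R (FractionRing R)))))
    {x : X.left} (hx : x ∈ Models.specialFibreSet R X) : IsMaxPt x ∨ IsClosed ({x} : Set X.left) := by
  by_cases hm : IsMaxPt x
  · exact Or.inl hm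
  refine Or.inr ?_
  simp only [IsMaxPt, hx, true_and, not_forall] at hm
  obtain ⟨w, hw, hwx, hne⟩ := hm
  rw [← closure_eq_iff_isClosed]
  refine Set.Subset.antisymm (fun v hv => ?_) subset_closure
  by_contra hvx
  exact eq_or_eq_of_chain hC i hi hwx (specializes_iff_mem_closure.2 hv) hw hne fun h => hvx h.symm

end Groth.Agent.ModelDom
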