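import Groth.Agent.Lib.ArInter.Model
import Groth.Agent.Lib.ArInter.Generic
import Groth.Agent.Lib.ArInter.Fibre
import Groth.Agent.Lib.SecDiv18.Peel
import Groth.Agent.Lib.RegExt.Image
import Groth.Agent.Lib.RelMin32.Basic
import Groth.Agent.S7624
import Groth.Prelude.Def_ModelsG
import Mathlib

/-!
# Models of a curve sharing the valuations of the closed fibre
-/

set_option autoImplicit false
set_option linter.style.haveILetI false
set_option linter.unusedSectionVars false
set_option backward.isDefEq.respectTransparency false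
set_option maxHeartbeats 1000000

universe u

open CategoryTheory CategoryTheory.Limits AlgebraicGeometry TopologicalSpace Opposite

noncomputable section

namespace Groth.Agent.ModelDom

variable {C X Y : Scheme.{u}} [IsIntegral C]

/-- The map of a local ring into the function field of a birational chart. -/
def toK (i : C ⟶ X) (y : X) (h : i (genericPoint C) ⤳ y) :
    X.presheaf.stalk y →+* C.presheaf.stalk (genericPoint C) :=
  (i.stalkMap (genericPoint C)).hom.comp (X.presheaf.stalkSpecializes h).hom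

theorem spec_gen [IsIntegral X] (i : C ⟶ X) [IsOpenImmersion i] (y : X) : i (genericPoint C) ⤳ y := by
  rw [genericPoint_eq_of_isOpenImmersion i]
  exact genericPoint_specializes y

theorem frac_aux [IsIntegral X] {w y : X} (h : w ⤳ y) (hw : w = genericPoint X) :
    Function.Injective (X.presheaf.stalkSpecializes h).hom ∧
      ∀ z : X.presheaf.stalk w, ∃ p q : X.presheaf.stalk y, q ≠ 0 ∧
        z * (X.presheaf.stalkSpecializes h).hom q = (X.presheaf.stalkSpecializes h).hom p := by
  subst hw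
  refine ⟨IsFractionRing.injective (X.presheaf.stalk y) X.functionField, fun z => ?_⟩
  obtain ⟨⟨p, q, hq⟩, hz⟩ := IsLocalization.surj (nonZeroDivisors (X.presheaf.stalk y)) (S := X.functionField) z
  exact ⟨p, q, nonZeroDivisors.ne_zero hq, hz⟩

theorem toK_injective [IsIntegral X] (i : C ⟶ X) [IsOpenImmersion i] (y : X) (h : i (genericPoint C) ⤳ y) :
    Function.Injective (toK i y h) :=
  (ConcreteCategory.bijective_of_isIso (i.stalkMap (genericPoint C))).1.comp
    (frac_aux h (genericPoint_eq_of_isOpenImmersion i)).1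

theorem toK_frac [IsIntegral X] (i : C ⟶ X) [IsOpenImmersion i] (y : X) (h : i (genericPoint C) ⤳ y)
    (z : C.presheaf.stalk (genericPoint C)) :
    ∃ p q, q ≠ 0 ∧ z * toK i y h q = toK i y h p := by
  obtain ⟨z', rfl⟩ := (ConcreteCategory.bijective_of_isIso (i.stalkMap (genericPoint C))).2 z
  obtain ⟨p, q, hq, hz⟩ := (frac_aux h (genericPoint_eq_of_isOpenImmersion i)).2 z'
  refine ⟨p, q, hq, ?_⟩
  show (i.stalkMap (genericPoint C)).hom z' * (i.stalkMap (genericPoint C)).hom _ = (i.stalkMap (genericPoint C)).hom _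
  rw [← map_mul, hz]

theorem toK_comp (j : C ⟶ Y) (f : Y ⟶ X) {i : C ⟶ X} (e : j ≫ f = i) (γ : Y) (h : j (genericPoint C) ⤳ γ)
    (h' : i (genericPoint C) ⤳ f γ) : toK i (f γ) h' = (toK j γ h).comp (f.stalkMap γ).hom := by
  subst e
  have := f.stalkSpecializes_stalkMap _ γ h
  show CommRingCat.Hom.hom (X.presheaf.stalkSpecializes h' ≫ (j ≫ f).stalkMap (genericPoint C)) =
    CommRingCat.Hom.hom (f.stalkMap γ ≫ Y.presheaf.stalkSpecializes h ≫ j.stalkMap (genericPoint C))
  rw [Scheme.Hom.stalkMap_comp, ← Category.assoc, ← Category.assoc]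
  exact congrArg (fun φ => CommRingCat.Hom.hom (φ ≫ j.stalkMap (genericPoint C))) this

theorem toK_specializes (j : C ⟶ Y) {γ γ' : Y} (hs : γ ⤳ γ') (h : j (genericPoint C) ⤳ γ)
    (h' : j (genericPoint C) ⤳ γ') :
    toK j γ' h' = (toK j γ h).comp (Y.presheaf.stalkSpecializes hs).hom := by
  show CommRingCat.Hom.hom (Y.presheaf.stalkSpecializes h' ≫ j.stalkMap (genericPoint C)) =
    CommRingCat.Hom.hom (Y.presheaf.stalkSpecializes hs ≫ Y.presheaf.stalkSpecializes h ≫ j.stalkMap (genericPoint C))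
  rw [← Category.assoc, TopCat.Presheaf.stalkSpecializes_comp]

theorem range_congr (i : C ⟶ X) {y y' : X} (e : y = y') (h : i (genericPoint C) ⤳ y)
    (h' : i (genericPoint C) ⤳ y') : Set.range (toK i y h) = Set.range (toK i y' h') := by
  subst e; rfl

/-- A valuation ring is not properly dominated inside its field of fractions. -/
theorem range_eq_of_valuation {V O K : Type u} [CommRing V] [IsDomain V] [ValuationRing V] [CommRing O] [Field K]
    (φ : V →+* O) [IsLocalHom φ] (a : O →+* K) (b : V →+* K) (hab : a.comp φ = b)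
    (hb : Function.Injective b) (ha : Function.Injective a)
    (hfrac : ∀ z : K, ∃ p q, q ≠ 0 ∧ z * b q = b p) : Set.range a = Set.range b := by
  refine Set.Subset.antisymm ?_ ?_
  · rintro _ ⟨o, rfl⟩
    obtain ⟨p, q, hq, hz⟩ := hfrac (a o)
    rcases ValuationRing.dvd_total q p with ⟨t, ht⟩ | ⟨t, ht⟩
    · refine ⟨t, ?_⟩
      rw [ht, map_mul, mul_comm] at hz
      exact (mul_left_cancel₀ ((map_ne_zero_iff b hb).2 hq) hz).symm
    · have hp : p ≠ 0 := by
        rintro rfl
        exact hq (by rw [ht, zero_mul])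
      rw [ht, map_mul, mul_left_comm] at hz
      have h1 : a o * b t = 1 := mul_left_cancel₀ ((map_ne_zero_iff b hb).2 hp) (hz.trans (mul_one _).symm)
      rw [← hab, RingHom.comp_apply, ← map_mul, ← map_one a] at h1
      obtain ⟨w, hw⟩ := isUnit_of_map_unit φ t (IsUnit.of_mul_eq_one o (by rw [mul_comm]; exact ha h1))
      refine ⟨(w⁻¹ : Vˣ), ?_⟩
      rw [← hab, RingHom.comp_apply]
      congr 1
      have h2 : φ t * φ (w⁻¹ : Vˣ) = 1 := by rw [← map_mul, ← hw, Units.mul_inv, map_one]
      calc φ (w⁻¹ : Vˣ) = φ (w⁻¹ : Vˣ) * (o * φ t) := by rw [ha h1, mul_one]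
        _ = o * (φ t * φ (w⁻¹ : Vˣ)) := by ring
        _ = o := by rw [h2, mul_one]
  · rintro _ ⟨v, rfl⟩
    exact ⟨φ v, by rw [← RingHom.comp_apply, hab]⟩

/-- Points with the same image in the function field are equal along specializations. -/
theorem eq_of_range [IsIntegral Y] (j : C ⟶ Y) [IsOpenImmersion j] {γ γ' : Y} (hs : γ ⤳ γ')
    (h : Set.range (toK j γ (spec_gen j γ)) = Set.range (toK j γ' (spec_gen j γ'))) : γ = γ' := by
  have e := toK_specializes j hs (spec_gen j γ) (spec_gen j γ')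
  have hbij : Function.Bijective (Y.presheaf.stalkSpecializes hs).hom := by
    refine ⟨fun a b hab => toK_injective j γ' _ (by rw [e, RingHom.comp_apply, RingHom.comp_apply, hab]),
      fun c => ?_⟩
    obtain ⟨d, hd⟩ : toK j γ (spec_gen j γ) c ∈ Set.range (toK j γ' (spec_gen j γ')) := h ▸ ⟨c, rfl⟩
    exact ⟨d, toK_injective j γ (spec_gen j γ) (by rw [← hd, e]; rfl)⟩
  haveI : IsIso (Y.presheaf.stalkSpecializes hs) := (ConcreteCategory.isIso_iff_bijective _).2 hbij
  calc γ = Y.fromSpecStalk γ (IsLocalRing.closedPoint (Y.presheaf.stalk γ)) := Scheme.fromSpecStalk_closedPoint.symm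
    _ = (Spec.map (Y.presheaf.stalkSpecializes hs) ≫ Y.fromSpecStalk γ')
        (IsLocalRing.closedPoint (Y.presheaf.stalk γ)) := by rw [Scheme.SpecMap_stalkSpecializes_fromSpecStalk]
    _ = Y.fromSpecStalk γ' (IsLocalRing.closedPoint (Y.presheaf.stalk γ')) := by
        rw [Scheme.Hom.comp_apply]
        congr 1
        exact IsLocalRing.comap_closedPoint _
    _ = γ' := Scheme.fromSpecStalk_closedPoint

/-- A valuation has at most one centre on a separated scheme. -/
theorem centre_unique [X.IsSeparated] (i : C ⟶ X) {O : CommRingCat.{u}} [IsDomain O] [IsLocalRing O]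
    (a : O →+* C.presheaf.stalk (genericPoint C)) (ha : Function.Injective a) {y y' : X}
    (h : i (genericPoint C) ⤳ y) (h' : i (genericPoint C) ⤳ y')
    (φ : X.presheaf.stalk y →+* O) [IsLocalHom φ] (φ' : X.presheaf.stalk y' →+* O) [IsLocalHom φ']
    (e : a.comp φ = toK i y h) (e' : a.comp φ' = toK i y' h') : y = y' := by
  have key : ∀ (z : X) (hz : i (genericPoint C) ⤳ z) (ψ : X.presheaf.stalk z →+* O), a.comp ψ = toK i z hz →
      Spec.map (CommRingCat.ofHom a) ≫ Spec.map (CommRingCat.ofHom ψ) ≫ X.fromSpecStalk z =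
        C.fromSpecStalk (genericPoint C) ≫ i := by
    intro z hz ψ hψ
    rw [← Spec.map_comp_assoc]
    have : CommRingCat.ofHom ψ ≫ CommRingCat.ofHom a =
        X.presheaf.stalkSpecializes hz ≫ i.stalkMap (genericPoint C) := CommRingCat.hom_ext hψ
    rw [this, Spec.map_comp, Category.assoc, Scheme.SpecMap_stalkSpecializes_fromSpecStalk,
      Scheme.SpecMap_stalkMap_fromSpecStalk]
  haveI : IsDominant (Spec.map (CommRingCat.ofHom a)) := by
    refine ⟨(PrimeSpectrum.denseRange_comap_iff_ker_le_nilRadical (f := a)).2 ?_⟩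
    rw [(RingHom.injective_iff_ker_eq_bot a).1 ha]
    exact bot_le
  have hαβ := ext_of_isDominant (Spec.map (CommRingCat.ofHom a))
    ((key y h φ e).trans (key y' h' φ' e').symm)
  have := congrArg (fun m : Spec O ⟶ X => m (IsLocalRing.closedPoint O)) hαβ
  simp only [Scheme.Hom.comp_apply] at this
  exact Scheme.fromSpecStalk_closedPoint.symm.trans
    ((congrArg (X.fromSpecStalk y) (IsLocalRing.comap_closedPoint φ).symm).trans
      (this.trans ((congrArg (X.fromSpecStalk y') (IsLocalRing.comap_closedPoint φ')).trans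
        Scheme.fromSpecStalk_closedPoint)))

/-- The graph of a rational map to a proper scheme, inside the product. -/
theorem exists_graph {Z S : Scheme.{u}} [AlgebraicGeometry.IsNoetherian X] [IsIntegral X] (c : X ⟶ S) (q : Z ⟶ S)
    [IsProper q] (U : X.Opens) (hne : (U : Set X).Nonempty) (g : (U : Scheme.{u}) ⟶ Z) (hg : g ≫ q = U.ι ≫ c) :
    ∃ (G : Scheme.{u}) (_ : IsIntegral G) (i : G ⟶ pullback c q) (σ : (U : Scheme.{u}) ⟶ G),
      IsClosedImmersion i ∧ IsOpenImmersion σ ∧ IsIso ((i ≫ pullback.fst c q) ∣_ U) ∧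
      σ ≫ i ≫ pullback.fst c q = U.ι ∧ σ ≫ i ≫ pullback.snd c q = g := by
  let j : (U : Scheme.{u}) ⟶ pullback c q := pullback.lift U.ι g hg.symm
  haveI : QuasiCompact U.ι := inferInstance
  haveI : QuasiCompact j := by
    haveI : QuasiCompact (j ≫ pullback.fst c q) := by
      rw [pullback.lift_fst]; infer_instance
    exact QuasiCompact.of_comp j (pullback.fst c q)
  haveI : Nonempty (U : Scheme.{u}) := hne.to_subtype
  haveI : IsIntegral (U : Scheme.{u}) := isIntegral_of_isOpenImmersion U.ι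
  haveI := RegExt.isIntegral_image j
  let f : j.image ⟶ X := j.imageι ≫ pullback.fst c q
  haveI : IsProper (pullback.fst c q) := MorphismProperty.pullback_fst _ _ inferInstance
  haveI : IsProper f := inferInstanceAs (IsProper (j.imageι ≫ pullback.fst c q))
  have hjf : j.toImage ≫ f = U.ι := by
    show _ ≫ _ ≫ _ = _
    rw [← Category.assoc, Scheme.Hom.toImage_imageι, pullback.lift_fst]
  have hr : Set.range j.toImage ⊆ Set.range (f ⁻¹ᵁ U).ι := by
    rintro _ ⟨w, rfl⟩
    rw [Scheme.Opens.range_ι]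
    show (j.toImage ≫ f) w ∈ U
    rw [hjf]; exact w.2
  let σ : (U : Scheme.{u}) ⟶ f ⁻¹ᵁ U := IsOpenImmersion.lift (f ⁻¹ᵁ U).ι j.toImage hr
  have hσ : σ ≫ (f ⁻¹ᵁ U).ι = j.toImage := IsOpenImmersion.lift_fac _ _ _
  have hσf : σ ≫ (f ∣_ U) = 𝟙 _ := by
    rw [← cancel_mono U.ι, Category.assoc, morphismRestrict_ι, ← Category.assoc, hσ, hjf, Category.id_comp]
  haveI : IsClosedImmersion σ := by
    haveI : IsClosedImmersion (σ ≫ (f ∣_ U)) := by rw [hσf]; infer_instance
    exact IsClosedImmersion.of_comp σ (f ∣_ U)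
  haveI : Surjective σ := ⟨by
    rw [← Set.range_eq_univ, ← σ.isClosedEmbedding.isClosed_range.closure_eq]
    refine Set.eq_univ_of_forall fun w => ?_
    rw [(f ⁻¹ᵁ U).ι.isOpenEmbedding.isInducing.closure_eq_preimage_closure_image, Set.mem_preimage, ← Set.range_comp]
    have e : ((f ⁻¹ᵁ U).ι : ↥(f ⁻¹ᵁ U) → j.image) ∘ σ = j.toImage := by
      funext v
      show (σ ≫ (f ⁻¹ᵁ U).ι) v = _
      rw [hσ]
    rw [e, j.toImage.denseRange.closure_range]
    exact Set.mem_univ _⟩
  haveI : AlgebraicGeometry.IsReduced ((f ⁻¹ᵁ U : j.image.Opens) : Scheme.{u}) := inferInstance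
  haveI : IsIso σ := isIso_of_isClosedImmersion_of_surjective σ
  haveI : IsIso (σ ≫ (f ∣_ U)) := by rw [hσf]; infer_instance
  refine ⟨j.image, inferInstance, j.imageι, j.toImage, inferInstance, ?_, IsIso.of_isIso_comp_left σ (f ∣_ U),
    hjf, by rw [← Category.assoc, Scheme.Hom.toImage_imageι, pullback.lift_snd]⟩
  rw [← hσ]
  infer_instance

end Groth.Agent.ModelDom
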